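import Groth.Agent.GlueTor.Two
import Groth.Agent.GITLib.TorsorSchMore
import Groth.Agent.GITLib.Orbit
import Groth.Prelude.Def_ActBC

/-!
# Gluing a torsor and the trivial torsor along a section over the intersection
-/

set_option autoImplicit false
set_option linter.style.haveILetI false

universe u

open CategoryTheory CategoryTheory.Limits MonoidalCategory CartesianMonoidalCategory MonObj AlgebraicGeometry

namespace Groth.Agent.GlueTor

open Groth.Agent.GITLib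

noncomputable section

variable {B : Scheme.{u}} {H P : Over B} [GrpObj H] (aP : AlgGrp.Action H P) {U₁ U₂ : Over B}
  [IsOpenImmersion U₁.hom] [IsOpenImmersion U₂.hom] (p : U₁ ⊗ U₂ ⟶ P)

omit [GrpObj H] in
theorem subsingleton_hom {U V : Over B} [Mono U.hom] (a b : V ⟶ U) : a = b :=
  Over.OverMorphism.ext ((cancel_mono U.hom).1 ((Over.w a).trans (Over.w b).symm))

/-- Transition into the first piece. -/
def glueF : (U₁ ⊗ U₂) ⊗ H ⟶ U₁ ⊗ P :=
  lift (fst (U₁ ⊗ U₂) H ≫ fst U₁ U₂) (lift (snd (U₁ ⊗ U₂) H) (fst (U₁ ⊗ U₂) H ≫ p) ≫ aP.act)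

/-- Transition into the second piece. -/
def glueG : (U₁ ⊗ U₂) ⊗ H ⟶ U₂ ⊗ H := snd U₁ U₂ ▷ H

variable {aP} (hP : NonAbH1.IsPseudoTorsorSch aP)

instance isOpenImmersion_snd : IsOpenImmersion (snd U₁ U₂).left :=
  inferInstanceAs (IsOpenImmersion (pullback.snd U₁.hom U₂.hom))

instance isOpenImmersion_fst : IsOpenImmersion (fst U₁ U₂).left :=
  inferInstanceAs (IsOpenImmersion (pullback.fst U₁.hom U₂.hom))

instance isOpenImmersion_whiskerRight {X Y : Over B} (φ : X ⟶ Y) [IsOpenImmersion φ.left] (T : Over B) :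
    IsOpenImmersion (φ ▷ T).left :=
  MorphismProperty.of_isPullback (P := @IsOpenImmersion) (isPullback_whiskerRight φ T) ‹_›

instance isOpenImmersion_whiskerLeft {X Y : Over B} (φ : X ⟶ Y) [IsOpenImmersion φ.left] (T : Over B) :
    IsOpenImmersion (T ◁ φ).left :=
  MorphismProperty.of_isPullback (P := @IsOpenImmersion) (isPullback_whiskerLeft T φ) ‹_›

instance isOpenImmersion_glueG : IsOpenImmersion (glueG (H := H) (U₁ := U₁) (U₂ := U₂)).left :=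
  inferInstanceAs (IsOpenImmersion (snd U₁ U₂ ▷ H).left)

include hP in
theorem glueF_eq : ∃ e : (U₁ ⊗ U₂) ⊗ H ≅ (U₁ ⊗ U₂) ⊗ P, glueF aP p = e.hom ≫ fst U₁ U₂ ▷ P := by
  let φ : (U₁ ⊗ U₂) ⊗ H ⟶ (U₁ ⊗ U₂) ⊗ P :=
    lift (fst _ _) (lift (snd (U₁ ⊗ U₂) H) (fst (U₁ ⊗ U₂) H ≫ p) ≫ aP.act)
  obtain ⟨γ, hγ, -⟩ := existsUnique_diff hP (fst (U₁ ⊗ U₂) P ≫ p) (snd (U₁ ⊗ U₂) P)
  refine ⟨⟨φ, lift (fst _ _) γ, ?_, ?_⟩, ?_⟩
  · refine CartesianMonoidalCategory.hom_ext _ _ (by simp [φ]) ?_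
    rw [Category.assoc, lift_snd, Category.id_comp]
    refine (existsUnique_diff hP (fst (U₁ ⊗ U₂) H ≫ p) (φ ≫ snd _ _)).unique ?_ (by simp [φ])
    have := congrArg (φ ≫ ·) hγ
    simp only [comp_lift_assoc] at this
    rwa [show φ ≫ fst _ _ ≫ p = fst (U₁ ⊗ U₂) H ≫ p by simp [φ]] at this
  · refine CartesianMonoidalCategory.hom_ext _ _ (by simp [φ]) ?_
    simp only [φ, Category.assoc, lift_snd, Category.id_comp, comp_lift_assoc, lift_fst_assoc]
    exact hγ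
  · refine CartesianMonoidalCategory.hom_ext _ _ ?_ ?_ <;> simp [glueF, φ]

include hP in
theorem isOpenImmersion_glueF : IsOpenImmersion (glueF aP p).left := by
  obtain ⟨e, he⟩ := glueF_eq p hP
  rw [he, Over.comp_left]
  haveI : IsIso e.hom.left := inferInstanceAs (IsIso ((Over.forget B).map e.hom))
  infer_instance

include hP in
theorem range_glueF (x : (U₁ ⊗ P).left) (hx : (U₁ ⊗ P).hom.base x ∈ Set.range U₂.hom.base) :
    x ∈ Set.range (glueF aP p).left.base := by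
  obtain ⟨e, he⟩ := glueF_eq p hP
  obtain ⟨u₂, hu₂⟩ := hx
  have hu₁ : U₁.hom.base ((fst U₁ P).left.base x) = U₂.hom.base u₂ := by
    rw [hu₂, ← Scheme.Hom.comp_apply, Over.w (fst U₁ P)]
  obtain ⟨w, hw, -⟩ := Scheme.Pullback.exists_preimage_pullback (f := U₁.hom) (g := U₂.hom) _ u₂ hu₁
  obtain ⟨v, -, hv⟩ := Scheme.Pullback.exists_preimage_pullback (f := (fst U₁ U₂).left) (g := (fst U₁ P).left) w x hw
  let v' := (isPullback_whiskerRight (fst U₁ U₂) P).isoPullback.inv.base v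
  have hv' : (fst U₁ U₂ ▷ P).left.base v' = x := by
    rw [← hv, ← Scheme.Hom.comp_apply, IsPullback.isoPullback_inv_snd]
  refine ⟨e.inv.left.base v', ?_⟩
  rw [he, ← Scheme.Hom.comp_apply, ← Over.comp_left, Iso.inv_hom_id_assoc, hv']

variable (Q : NonAbH1.IsTorsorFor Scheme.fppfPrecoverage aP)
  (hcov : ∀ b : B, b ∈ Set.range U₁.hom.base ∨ b ∈ Set.range U₂.hom.base)

include p Q hcov in
/-- A torsor over the first open and the trivial torsor over the second glue along a section over the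
intersection. -/
theorem exists_glue :
    ∃ (Y : NonAbH1.TorsorSch H Scheme.fppfPrecoverage) (ι₁ : U₁ ⊗ P ⟶ Y.X) (ι₂ : U₂ ⊗ H ⟶ Y.X),
      (∀ {V : Over B} (h : V ⟶ H) (t : V ⟶ U₁) (x : V ⟶ P),
        lift h (lift t x ≫ ι₁) ≫ Y.act.act = lift t (lift h x ≫ aP.act) ≫ ι₁) ∧
      (∀ {V : Over B} (h : V ⟶ H) (t : V ⟶ U₂) (x : V ⟶ H),
        lift h (lift t x ≫ ι₂) ≫ Y.act.act = lift t (h * x) ≫ ι₂) ∧
      (∀ {V : Over B} (y : V ⟶ Y.X), Set.range V.hom.base ⊆ Set.range U₁.hom.base → ∃ x, x ≫ ι₁ = y) := by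
  have hP := Q.1
  haveI := isOpenImmersion_glueF p hP
  let F := glueF aP p
  let G₂ : (U₁ ⊗ U₂) ⊗ H ⟶ U₂ ⊗ H := glueG
  haveI : IsOpenImmersion G₂.left := isOpenImmersion_glueG
  let Yl := pushout F.left G₂.left
  let Y : Over B := Over.mk (pushout.desc (U₁ ⊗ P).hom (U₂ ⊗ H).hom ((Over.w F).trans (Over.w G₂).symm))
  let ι₁ : U₁ ⊗ P ⟶ Y := Over.homMk (pushout.inl F.left G₂.left) (pushout.inl_desc _ _ _)
  let ι₂ : U₂ ⊗ H ⟶ Y := Over.homMk (pushout.inr F.left G₂.left) (pushout.inr_desc _ _ _)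
  haveI : IsOpenImmersion ι₁.left := inferInstanceAs (IsOpenImmersion (pushout.inl F.left G₂.left))
  haveI : IsOpenImmersion ι₂.left := inferInstanceAs (IsOpenImmersion (pushout.inr F.left G₂.left))
  have hc : IsTwoCover ι₁ ι₂ := ⟨inferInstance, inferInstance, fun y => TopologicalSpace.Opens.mem_sup.1
    ((LimLib.pushout_opensRange_sup F.left G₂.left).ge (trivial : y ∈ (⊤ : Yl.Opens)))⟩
  have hFG : F ≫ ι₁ = G₂ ≫ ι₂ := Over.OverMorphism.ext pushout.condition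
  haveI : Mono ι₂ := (Over.forget B).mono_of_mono_map (inferInstanceAs (Mono ι₂.left))
  haveI : Mono ι₁ := (Over.forget B).mono_of_mono_map (inferInstanceAs (Mono ι₁.left))
  have hinter : ∀ {W : Over B} (x : W ⟶ U₁ ⊗ P) (y : W ⟶ U₂ ⊗ H), x ≫ ι₁ = y ≫ ι₂ →
      ∃ z, z ≫ F = x ∧ z ≫ G₂ = y := by
    intro W x y e
    have hsub : Set.range x.left.base ⊆ Set.range F.left.base := by
      rintro _ ⟨w, rfl⟩
      refine range_glueF p hP _ ⟨(fst U₂ H).left.base (y.left.base w), ?_⟩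
      rw [← Scheme.Hom.comp_apply, ← Scheme.Hom.comp_apply, ← Scheme.Hom.comp_apply, Over.w (fst U₂ H), Over.w x,
        Over.w y]
    let z : W ⟶ (U₁ ⊗ U₂) ⊗ H := Over.homMk (IsOpenImmersion.lift F.left x.left hsub) (by
      rw [← Over.w F, ← Category.assoc, IsOpenImmersion.lift_fac]; exact Over.w x)
    have hz : z ≫ F = x := Over.OverMorphism.ext (IsOpenImmersion.lift_fac _ _ hsub)
    refine ⟨z, hz, ?_⟩
    rw [← cancel_mono ι₂, Category.assoc, ← hFG, reassoc_of% hz, e]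
  -- the action
  have hcG : IsTwoCover (H ◁ ι₁) (H ◁ ι₂) := by
    refine ⟨inferInstance, inferInstance, fun w => ?_⟩
    rcases hc.cov ((snd H Y).left.base w) with ⟨v, hv⟩ | ⟨v, hv⟩
    · left
      obtain ⟨u, -, hu⟩ := Scheme.Pullback.exists_preimage_pullback (f := ι₁.left) (g := (snd H Y).left) v w hv
      exact ⟨(isPullback_whiskerLeft H ι₁).isoPullback.inv.base u, by
        rw [← Scheme.Hom.comp_apply, IsPullback.isoPullback_inv_snd]; exact hu⟩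
    · right
      obtain ⟨u, -, hu⟩ := Scheme.Pullback.exists_preimage_pullback (f := ι₂.left) (g := (snd H Y).left) v w hv
      exact ⟨(isPullback_whiskerLeft H ι₂).isoPullback.inv.base u, by
        rw [← Scheme.Hom.comp_apply, IsPullback.isoPullback_inv_snd]; exact hu⟩
  obtain ⟨act, hact₁, hact₂⟩ := hcG.exists_desc
    (lift (snd H _ ≫ fst U₁ P) (lift (fst H _) (snd H _ ≫ snd U₁ P) ≫ aP.act) ≫ ι₁)
    (lift (snd H _ ≫ fst U₂ H) (fst H _ * (snd H _ ≫ snd U₂ H)) ≫ ι₂) (by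
    intro W x y e
    have e1 := congrArg (· ≫ fst H Y) e
    have e2 := congrArg (· ≫ snd H Y) e
    simp only [Category.assoc, whiskerLeft_fst, whiskerLeft_snd] at e1 e2
    obtain ⟨z, hz₁, hz₂⟩ := hinter (x ≫ snd _ _) (y ≫ snd _ _) (by simpa using e2)
    have k := congrArg (lift (z ≫ fst _ _) ((x ≫ fst _ _) * (z ≫ snd _ _)) ≫ ·) hFG
    refine Eq.trans ?_ (Eq.trans k ?_)
    · rw [show x ≫ lift (snd H _ ≫ fst U₁ P) (lift (fst H _) (snd H _ ≫ snd U₁ P) ≫ aP.act) ≫ ι₁ =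
          lift ((x ≫ snd _ _) ≫ fst U₁ P) (lift (x ≫ fst _ _) ((x ≫ snd _ _) ≫ snd U₁ P) ≫ aP.act) ≫ ι₁ by
            simp only [comp_lift_assoc, Category.assoc], ← hz₁]
      simp only [F, glueF, comp_lift, Category.assoc, lift_fst, lift_snd, comp_lift_assoc, lift_fst_assoc,
        aP.lift_mul_act]
    · rw [show y ≫ lift (snd H _ ≫ fst U₂ H) (fst H _ * (snd H _ ≫ snd U₂ H)) ≫ ι₂ =
          lift ((y ≫ snd _ _) ≫ fst U₂ H) ((y ≫ fst _ _) * ((y ≫ snd _ _) ≫ snd U₂ H)) ≫ ι₂ by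
            simp only [comp_lift_assoc, MonObj.comp_mul, Category.assoc], ← hz₂]
      simp only [G₂, glueG, lift_whiskerRight_assoc, Category.assoc, whiskerRight_fst, whiskerRight_snd, e1])
  have h₁ : ∀ {V : Over B} (h : V ⟶ H) (x : V ⟶ U₁ ⊗ P),
      lift h (x ≫ ι₁) ≫ act = lift (x ≫ fst _ _) (lift h (x ≫ snd _ _) ≫ aP.act) ≫ ι₁ := fun h x => by
    rw [← lift_whiskerLeft_assoc, hact₁]
    simp only [comp_lift_assoc, lift_fst, lift_snd_assoc]
  have h₂ : ∀ {V : Over B} (h : V ⟶ H) (x : V ⟶ U₂ ⊗ H),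
      lift h (x ≫ ι₂) ≫ act = lift (x ≫ fst _ _) (h * (x ≫ snd _ _)) ≫ ι₂ := fun h x => by
    rw [← lift_whiskerLeft_assoc, hact₂]
    simp only [comp_lift_assoc, MonObj.comp_mul, lift_fst, lift_snd_assoc]
  have one_law : ∀ {V : Over B} (y : V ⟶ Y), lift (1 : V ⟶ H) y ≫ act = y := by
    intro V y
    obtain ⟨T₁, T₂, l₁, l₂, hT, ⟨x₁, hx₁⟩, ⟨x₂, hx₂⟩⟩ := hc.pullback y
    refine hT.hom_ext ?_ ?_
    · rw [comp_lift_assoc, MonObj.comp_one, ← hx₁, h₁, aP.lift_one_act, ← comp_lift, lift_fst_snd, Category.comp_id]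
    · rw [comp_lift_assoc, MonObj.comp_one, ← hx₂, h₂, _root_.one_mul, ← comp_lift, lift_fst_snd, Category.comp_id]
  have mul_law : ∀ {V : Over B} (g h : V ⟶ H) (y : V ⟶ Y),
      lift (g * h) y ≫ act = lift g (lift h y ≫ act) ≫ act := by
    intro V g h y
    obtain ⟨T₁, T₂, l₁, l₂, hT, ⟨x₁, hx₁⟩, ⟨x₂, hx₂⟩⟩ := hc.pullback y
    refine hT.hom_ext ?_ ?_
    · simp only [comp_lift_assoc, MonObj.comp_mul, ← hx₁, h₁, lift_fst, lift_snd, aP.lift_mul_act]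
    · simp only [comp_lift_assoc, MonObj.comp_mul, ← hx₂, h₂, lift_fst, lift_snd, _root_.mul_assoc]
  let aY : AlgGrp.Action H Y :=
    { act := act
      one_act := by
        have := one_law (snd (𝟙_ (Over B)) Y)
        rw [leftUnitor_hom, ← this]
        refine congrArg (fun w => w ≫ act) (CartesianMonoidalCategory.hom_ext _ _ ?_ ?_)
        · rw [whiskerRight_fst, lift_fst, Hom.one_def, toUnit_unique (toUnit _) (fst (𝟙_ (Over B)) Y)]
        · simp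
      mul_act := by
        apply AlgGrp.Action.hom_ext_lift₃
        intro T g h x
        rw [lift_whiskerRight_assoc, ← Hom.mul_def, mul_law, lift_lift_associator_hom_assoc,
          lift_whiskerLeft_assoc] }
  -- the part over the first open
  have hU1 : ∀ {V : Over B} (y : V ⟶ Y), Set.range V.hom.base ⊆ Set.range U₁.hom.base → ∃ x, x ≫ ι₁ = y := by
    intro V y hV
    have hsub : Set.range y.left.base ⊆ Set.range ι₁.left.base := by
      rintro _ ⟨v, rfl⟩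
      rcases hc.cov (y.left.base v) with hh | ⟨u, hu⟩
      · exact hh
      · obtain ⟨u₁, hu₁⟩ := hV ⟨v, rfl⟩
        have hu' : U₁.hom.base u₁ = U₂.hom.base ((fst U₂ H).left.base u) := by
          rw [hu₁, ← Over.w y, Scheme.Hom.comp_apply, ← hu, ← Scheme.Hom.comp_apply, Over.w ι₂,
            ← Scheme.Hom.comp_apply, Over.w (fst U₂ H)]
        obtain ⟨w, -, hw⟩ := Scheme.Pullback.exists_preimage_pullback (f := U₁.hom) (g := U₂.hom) u₁ _ hu'
        obtain ⟨r, -, hr⟩ := Scheme.Pullback.exists_preimage_pullback (f := (snd U₁ U₂).left) (g := (fst U₂ H).left) w u hw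
        refine ⟨F.left.base ((isPullback_whiskerRight (snd U₁ U₂) H).isoPullback.inv.base r), ?_⟩
        rw [← Scheme.Hom.comp_apply, ← Over.comp_left, hFG, Over.comp_left, Scheme.Hom.comp_apply]
        refine (congrArg ι₂.left.base ?_).trans hu
        show (snd U₁ U₂ ▷ H).left.base _ = u
        rw [← Scheme.Hom.comp_apply, IsPullback.isoPullback_inv_snd]
        exact hr
    refine ⟨Over.homMk (IsOpenImmersion.lift ι₁.left y.left hsub) (by
      rw [← Over.w ι₁, ← Category.assoc, IsOpenImmersion.lift_fac]; exact Over.w y),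
      Over.OverMorphism.ext (IsOpenImmersion.lift_fac _ _ hsub)⟩
  have hU2 : ∀ {V : Over B} (y : V ⟶ Y), Set.range V.hom.base ⊆ Set.range U₂.hom.base → ∃ x, x ≫ ι₂ = y := by
    intro V y hV
    have hsub : Set.range y.left.base ⊆ Set.range ι₂.left.base := by
      rintro _ ⟨v, rfl⟩
      rcases hc.cov (y.left.base v) with ⟨u, hu⟩ | hh
      · have hmem : (U₁ ⊗ P).hom.base u ∈ Set.range U₂.hom.base := by
          have := hV ⟨v, rfl⟩
          rwa [← Over.w y, Scheme.Hom.comp_apply, ← hu, ← Scheme.Hom.comp_apply, Over.w ι₁] at this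
        obtain ⟨r, rfl⟩ := range_glueF p hP u hmem
        refine ⟨G₂.left.base r, ?_⟩
        rw [← hu, ← Scheme.Hom.comp_apply, ← Scheme.Hom.comp_apply, ← Over.comp_left, ← Over.comp_left, hFG]
      · exact hh
    refine ⟨Over.homMk (IsOpenImmersion.lift ι₂.left y.left hsub) (by
      rw [← Over.w ι₂, ← Category.assoc, IsOpenImmersion.lift_fac]; exact Over.w y),
      Over.OverMorphism.ext (IsOpenImmersion.lift_fac _ _ hsub)⟩
  have loc : ∀ {V : Over B} (x₀ : V ⟶ Y), ∃ (T₁ T₂ : Over B) (l₁ : T₁ ⟶ V) (l₂ : T₂ ⟶ V), IsTwoCover l₁ l₂ ∧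
      (∀ y : T₁ ⟶ Y, ∃ x, x ≫ ι₁ = y) ∧ ∀ y : T₂ ⟶ Y, ∃ x, x ≫ ι₂ = y := by
    intro V x₀
    obtain ⟨T₁, T₂, l₁, l₂, hT, ⟨x₁, hx₁⟩, ⟨x₂, hx₂⟩⟩ := hc.pullback x₀
    refine ⟨T₁, T₂, l₁, l₂, hT, fun y => hU1 y ?_, fun y => hU2 y ?_⟩
    · rw [← Over.w (x₁ ≫ fst U₁ P)]
      rintro _ ⟨w, rfl⟩
      exact ⟨(x₁ ≫ fst U₁ P).left.base w, by rw [← Scheme.Hom.comp_apply]⟩
    · rw [← Over.w (x₂ ≫ fst U₂ H)]
      rintro _ ⟨w, rfl⟩
      exact ⟨(x₂ ≫ fst U₂ H).left.base w, by rw [← Scheme.Hom.comp_apply]⟩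
  -- simple transitivity on each piece
  have ex₁ : ∀ {T : Over B} (x y : T ⟶ U₁ ⊗ P), ∃! g : T ⟶ H, lift g (x ≫ ι₁) ≫ act = y ≫ ι₁ := by
    intro T x y
    obtain ⟨g, hg, hu⟩ := existsUnique_diff hP (x ≫ snd _ _) (y ≫ snd _ _)
    refine ⟨g, ?_, fun g' hg' => hu g' ?_⟩
    · show lift g (x ≫ ι₁) ≫ act = y ≫ ι₁
      rw [h₁, show lift g (x ≫ snd _ _) ≫ aP.act = y ≫ snd _ _ from hg, subsingleton_hom (x ≫ fst U₁ P) (y ≫ fst U₁ P),
        ← comp_lift, lift_fst_snd, Category.comp_id]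
    · have e : lift g' (x ≫ ι₁) ≫ act = y ≫ ι₁ := hg'
      rw [h₁, cancel_mono] at e
      show lift g' (x ≫ snd _ _) ≫ aP.act = y ≫ snd _ _
      rw [← e, lift_snd]
  have ex₂ : ∀ {T : Over B} (x y : T ⟶ U₂ ⊗ H), ∃! g : T ⟶ H, lift g (x ≫ ι₂) ≫ act = y ≫ ι₂ := by
    intro T x y
    refine ⟨(y ≫ snd _ _) * (x ≫ snd _ _)⁻¹, ?_, fun g' hg' => ?_⟩
    · show lift _ (x ≫ ι₂) ≫ act = y ≫ ι₂
      rw [h₂, inv_mul_cancel_right, subsingleton_hom (x ≫ fst U₂ H) (y ≫ fst U₂ H), ← comp_lift, lift_fst_snd,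
        Category.comp_id]
    · have e : lift g' (x ≫ ι₂) ≫ act = y ≫ ι₂ := hg'
      rw [h₂, cancel_mono] at e
      rw [← e, lift_snd, mul_inv_cancel_right]
  have uniq : ∀ {V : Over B} (x y : V ⟶ Y) (g g' : V ⟶ H), lift g x ≫ act = y → lift g' x ≫ act = y → g = g' := by
    intro V x y g g' hg hg'
    obtain ⟨T₁, T₂, l₁, l₂, hT, hp₁, hp₂⟩ := loc x
    refine hT.hom_ext ?_ ?_
    · obtain ⟨a, ha⟩ := hp₁ (l₁ ≫ x); obtain ⟨b, hb⟩ := hp₁ (l₁ ≫ y)
      refine (ex₁ a b).unique ?_ ?_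
      · rw [ha, hb, ← hg, comp_lift_assoc]
      · rw [ha, hb, ← hg', comp_lift_assoc]
    · obtain ⟨a, ha⟩ := hp₂ (l₂ ≫ x); obtain ⟨b, hb⟩ := hp₂ (l₂ ≫ y)
      refine (ex₂ a b).unique ?_ ?_
      · rw [ha, hb, ← hg, comp_lift_assoc]
      · rw [ha, hb, ← hg', comp_lift_assoc]
  have hpseudo : NonAbH1.IsPseudoTorsorSch aY := by
    have h : ∀ {V : Over B} (x y : V ⟶ Y), ∃! g : V ⟶ H, lift g x ≫ act = y := by
      intro V x y
      obtain ⟨T₁, T₂, l₁, l₂, hT, hp₁, hp₂⟩ := loc x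
      obtain ⟨a₁, ha₁⟩ := hp₁ (l₁ ≫ x); obtain ⟨b₁, hb₁⟩ := hp₁ (l₁ ≫ y)
      obtain ⟨a₂, ha₂⟩ := hp₂ (l₂ ≫ x); obtain ⟨b₂, hb₂⟩ := hp₂ (l₂ ≫ y)
      obtain ⟨g₁, hg₁, -⟩ := ex₁ a₁ b₁
      obtain ⟨g₂, hg₂, -⟩ := ex₂ a₂ b₂
      rw [ha₁, hb₁] at hg₁
      rw [ha₂, hb₂] at hg₂
      obtain ⟨g, hgl₁, hgl₂⟩ := hT.exists_desc g₁ g₂ (fun u v e => by
        refine uniq (u ≫ l₁ ≫ x) (u ≫ l₁ ≫ y) _ _ ?_ ?_
        · rw [← hg₁, comp_lift_assoc]
        · rw [reassoc_of% e, reassoc_of% e, ← hg₂, comp_lift_assoc])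
      refine ⟨g, hT.hom_ext ?_ ?_, fun g' hg' => uniq x y g' g hg' (hT.hom_ext ?_ ?_)⟩
      all_goals first
        | rw [comp_lift_assoc, hgl₁, hg₁]
        | rw [comp_lift_assoc, hgl₂, hg₂]
    obtain ⟨γ, hγ, -⟩ := h (snd Y Y) (fst Y Y)
    refine ⟨lift γ (snd Y Y), ?_, ?_⟩
    · refine CartesianMonoidalCategory.hom_ext _ _ ?_ (by simp)
      rw [Category.assoc, lift_fst, Category.id_comp]
      refine (h (snd H Y) aY.act).unique ?_ (by rw [lift_fst_snd, Category.id_comp])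
      have := congrArg (lift aY.act (snd H Y) ≫ ·) hγ
      simp only [comp_lift_assoc, lift_fst, lift_snd] at this
      exact this
    · refine CartesianMonoidalCategory.hom_ext _ _ ?_ (by simp)
      rw [Category.assoc, lift_fst, Category.id_comp]
      exact hγ
  -- local triviality
  have hlt : NonAbH1.IsLocallyTrivialFor Scheme.fppfPrecoverage Y := by
    refine ⟨fun W f => (Flat f ∧ LocallyOfFinitePresentation f) ∧ NonAbH1.HasSectionOver Y f,
      ⟨fun b => ?_, fun W f hf => hf.1⟩, fun W f hf => hf.2⟩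
    rcases hcov b with ⟨u, hu⟩ | ⟨u, hu⟩
    · obtain ⟨R, hR, hs⟩ := Q.2
      obtain ⟨W, f, hf, y, hy⟩ := hR.1 b
      rcases hf with @⟨W', f, hf⟩
      obtain ⟨hfl, hfp⟩ := hR.2 hf
      obtain ⟨σ, hσ⟩ := hs f hf
      obtain ⟨w, hw, -⟩ := Scheme.Pullback.exists_preimage_pullback (f := U₁.hom) (g := f) u y (hu.trans hy.symm)
      refine ⟨_, _, Presieve.map_map (f := pullback.fst U₁.hom f ≫ U₁.hom) ⟨⟨inferInstance, inferInstance⟩, ?_⟩, w, ?_⟩
      · let V : Over B := Over.mk (pullback.fst U₁.hom f ≫ U₁.hom)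
        let x : V ⟶ U₁ ⊗ P := lift (Over.homMk (pullback.fst U₁.hom f) rfl)
          (Over.homMk (pullback.snd U₁.hom f ≫ σ) (by
            show _ = pullback.fst U₁.hom f ≫ U₁.hom
            rw [Category.assoc, hσ, pullback.condition]))
        exact ⟨(x ≫ ι₁).left, Over.w (x ≫ ι₁)⟩
      · show (pullback.fst U₁.hom f ≫ U₁.hom).base w = b
        rw [Scheme.Hom.comp_apply, hw, hu]
    · refine ⟨_, _, Presieve.map_map (f := U₂.hom) ⟨⟨inferInstance, inferInstance⟩, ?_⟩, u, hu⟩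
      let x : Over.mk U₂.hom ⟶ U₂ ⊗ H := lift (Over.homMk (𝟙 U₂.left) (Category.id_comp _)) 1
      exact ⟨(x ≫ ι₂).left, Over.w (x ≫ ι₂)⟩
  refine ⟨⟨Y, aY, hpseudo, hlt⟩, ι₁, ι₂, fun {V} h t x => ?_, fun {V} h t x => ?_, hU1⟩
  · show lift h (lift t x ≫ ι₁) ≫ act = _
    rw [h₁, lift_fst, lift_snd]
  · show lift h (lift t x ≫ ι₂) ≫ act = _
    rw [h₂, lift_fst, lift_snd]

end

end Groth.Agent.GlueTor
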