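import Groth.Agent.Patch17.SpreadSec
import Groth.Agent.Patch17.Transport
import Mathlib.RingTheory.AdjoinRoot
import Mathlib.Algebra.Polynomial.Reverse

/-!
# Torsors on the affine line: auxiliary lemmas
-/

set_option autoImplicit false
set_option linter.style.haveILetI false

universe u

open CategoryTheory CategoryTheory.Limits MonoidalCategory CartesianMonoidalCategory MonObj AlgebraicGeometry
open Polynomial (C X)

namespace Groth.Agent.GlueTor

open Groth.Agent.Patch17
open Groth.Agent.G0Patch (sp)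

noncomputable section

variable (R : Type u) [CommRing R]

/-- Polynomials in one variable, indexed by `PUnit`. -/
def puEquiv : MvPolynomial PUnit.{u + 1} R ≃ₐ[R] Polynomial R :=
  AlgEquiv.ofAlgHom (MvPolynomial.aeval fun _ => Polynomial.X) (Polynomial.aeval (MvPolynomial.X PUnit.unit))
    (Polynomial.algHom_ext (by simp)) (MvPolynomial.algHom_ext fun i => by simp)

@[simp] theorem puEquiv_X (i : PUnit.{u + 1}) : puEquiv R (MvPolynomial.X i) = Polynomial.X := by simp [puEquiv]

@[simp] theorem puEquiv_C (r : R) : puEquiv R (MvPolynomial.C r) = Polynomial.C r := by simp [puEquiv]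

/-- The affine line as affine space. -/
def betaLine : SA (R := R) (Polynomial R) ≅ SA (R := R) (MvPolynomial PUnit.{u + 1} R) where
  hom := pt (puEquiv R).toAlgHom
  inv := pt (puEquiv R).symm.toAlgHom
  hom_inv_id := by rw [pt_comp, ← pt_id]; exact congrArg pt (AlgHom.ext fun x => (puEquiv R).apply_symm_apply x)
  inv_hom_id := by rw [pt_comp, ← pt_id]; exact congrArg pt (AlgHom.ext fun x => (puEquiv R).symm_apply_apply x)

theorem originB_betaLine :
    originB (k := Spec.map (CommRingCat.ofHom (algebraMap R (Polynomial R)))) (betaLine R) =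
      sp (Polynomial.evalRingHom (0 : R)) := by
  show Spec.map _ ≫ Spec.map _ = Spec.map _
  rw [← Spec.map_comp, ← CommRingCat.ofHom_comp]
  exact congrArg (fun φ => sp φ) (Polynomial.ringHom_ext (fun a => by simp [puEquiv]) (by simp [puEquiv]))

variable {R} {G : Over (Spec (CommRingCat.of R))} [GrpObj G] [LocallyOfFinitePresentation G.hom]
  (Y : NonAbH1.TorsorSch (Red.bc (Spec.map (CommRingCat.ofHom (algebraMap R (Polynomial R)))) G)
    Scheme.fppfPrecoverage)

/-- A torsor on the line with sections over all `R_m[t]` descends. -/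
theorem descAlg_line
    (hsec : ∀ (m : Ideal R) [m.IsMaximal], ∃ s : Spec (CommRingCat.of (Polynomial (Localization.AtPrime m))) ⟶ Y.X.left,
      s ≫ Y.X.hom = sp (Polynomial.mapRingHom (algebraMap R (Localization.AtPrime m)))) :
    DescAlg (betaLine R) Y R := by
  refine descAlg_of_sections (betaLine R) Y fun m _ => ?_
  obtain ⟨s, hs⟩ := hsec m
  let L := Localization.AtPrime m
  have key : sp ((puEquiv L).symm.toAlgHom.toRingHom) ≫
      sp (Polynomial.mapRingHom (algebraMap R L)) ≫ sp (puEquiv R).toAlgHom.toRingHom =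
        sp (MvPolynomial.map (algebraMap R L)) := by
    rw [← Spec.map_comp, ← Spec.map_comp, ← CommRingCat.ofHom_comp, ← CommRingCat.ofHom_comp]
    exact congrArg (fun φ => sp φ) (MvPolynomial.ringHom_ext (fun a => by simp [puEquiv]) fun i => by simp [puEquiv])
  refine ⟨Over.homMk (sp ((puEquiv L).symm.toAlgHom.toRingHom) ≫ s) ?_, Over.OverMorphism.ext ?_⟩
  · show (_ ≫ s) ≫ Y.X.hom ≫ Spec.map _ = Spec.map _
    rw [Category.assoc, reassoc_of% hs, ← Spec.map_comp, ← Spec.map_comp, ← CommRingCat.ofHom_comp,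
      ← CommRingCat.ofHom_comp]
    refine congrArg (fun φ => sp φ) (RingHom.ext fun a => ?_)
    simp [puEquiv, L, IsScalarTower.algebraMap_apply R L (MvPolynomial PUnit.{u + 1} L)]
  · show (_ ≫ s) ≫ Y.X.hom ≫ Spec.map _ = Spec.map _
    rw [Category.assoc, reassoc_of% hs]
    exact key

/-- The group identification. -/
def grpIso {S B Bm Sm : Scheme.{u}} {k : B ⟶ S} (G : Over S) [GrpObj G] (a : Bm ⟶ Sm) (b : Sm ⟶ S) (g : Bm ⟶ B)
    (h : g ≫ k = a ≫ b) : Red.bc a (Red.bc b G) ⟶ Red.bc g (Red.bc k G) :=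
  (ActBC.bcCompIso a b G rfl).hom ≫ (ActBC.bcCompIso g k G h).inv

/-- Sections over `g` from the hypothesis at the localisation. -/
theorem section_of_hloc {S B Bm Sm U : Scheme.{u}} {k : B ⟶ S} {G : Over S} [GrpObj G] (a : Bm ⟶ Sm) (b : Sm ⟶ S)
    (g : Bm ⟶ B) (h : g ≫ k = a ≫ b) (Y : NonAbH1.TorsorSch (Red.bc k G) Scheme.fppfPrecoverage) (i : U ⟶ Bm)
    (hloc : ∀ Z : NonAbH1.TorsorSch (Red.bc a (Red.bc b G)) Scheme.fppfPrecoverage,
      NonAbH1.HasSectionOver Z.X i → NonAbH1.HasSectionOver Z.X (𝟙 Bm))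
    (hY : ∃ s : U ⟶ Y.X.left, s ≫ Y.X.hom = i ≫ g) : ∃ s : Bm ⟶ Y.X.left, s ≫ Y.X.hom = g := by
  obtain ⟨s, hs⟩ := hY
  haveI : IsMonHom (grpIso G a b g h) := by unfold grpIso; infer_instance
  haveI : IsIso (grpIso G a b g h) := by unfold grpIso; infer_instance
  obtain ⟨σ, hσ⟩ := hloc ⟨(Y.bc g).X, (Y.bc g).act.restrict (grpIso G a b g h),
    isPseudoTorsor_restrict (grpIso G a b g h) (Y.bc g).isTorsor.1, (Y.bc g).isTorsor.2⟩
    ⟨pullback.lift s i hs, pullback.lift_snd _ _ _⟩
  refine ⟨σ ≫ pullback.fst Y.X.hom g, ?_⟩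
  refine (Category.assoc _ _ _).trans ((congrArg (σ ≫ ·) pullback.condition).trans ?_)
  refine (Category.assoc _ _ _).symm.trans ?_
  exact (congrArg (· ≫ g) hσ).trans (Category.id_comp _)

/-- Factorisation through a basic open. -/
theorem exists_fac_basicOpen {A L : Type u} [CommRing A] (f : A) [CommRing L] [Algebra A L] [IsLocalization.Away f L]
    {V : Scheme.{u}} (v : V ⟶ Spec (CommRingCat.of A)) (hv : ∀ y : V, f ∉ (v.base y).asIdeal) :
    ∃ l : V ⟶ Spec (CommRingCat.of L), l ≫ sp (algebraMap A L) = v := by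
  haveI : IsOpenImmersion (sp (algebraMap A L)) := IsOpenImmersion.of_isLocalization f
  have hsub : Set.range v.base ⊆ Set.range (sp (algebraMap A L)).base := by
    rintro _ ⟨y, rfl⟩
    show v.base y ∈ Set.range (PrimeSpectrum.comap (algebraMap A L))
    rw [PrimeSpectrum.localization_away_comap_range L f]
    exact hv y
  exact ⟨IsOpenImmersion.lift _ v hsub, IsOpenImmersion.lift_fac _ _ hsub⟩

theorem notMem_of_range {A L : Type u} [CommRing A] (f : A) [CommRing L] [Algebra A L] [IsLocalization.Away f L]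
    (y : ↥(Spec (CommRingCat.of L))) : f ∉ ((sp (algebraMap A L)).base y).asIdeal := by
  intro hy
  exact y.isPrime.ne_top (Ideal.eq_top_of_isUnit_mem _ hy (IsLocalization.Away.algebraMap_isUnit f))

end

end Groth.Agent.GlueTor
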