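import Mathlib.AlgebraicGeometry.Pullbacks
import Mathlib.AlgebraicGeometry.PullbackCarrier
import Mathlib.CategoryTheory.Monoidal.Cartesian.Over
import Groth.Agent.LimLib.Glue

/-!
# Gluing morphisms over a base along two opens
-/

set_option autoImplicit false
set_option linter.style.haveILetI false

universe u

open CategoryTheory CategoryTheory.Limits AlgebraicGeometry

namespace Groth.Agent.GlueTor

variable {B : Scheme.{u}} {V V₁ V₂ Z : Over B} (j₁ : V₁ ⟶ V) (j₂ : V₂ ⟶ V)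

/-- Two morphisms covering the target. -/
structure IsTwoCover : Prop where
  oi₁ : IsOpenImmersion j₁.left
  oi₂ : IsOpenImmersion j₂.left
  cov : ∀ x : V.left, x ∈ Set.range j₁.left.base ∨ x ∈ Set.range j₂.left.base

variable {j₁ j₂}

/-- The open cover. -/
noncomputable def IsTwoCover.cover (h : IsTwoCover j₁ j₂) : V.left.OpenCover where
  I₀ := ULift.{u} Bool
  X := fun i => bif i.down then V₁.left else V₂.left
  f := fun i => match i with
    | ⟨true⟩ => j₁.left
    | ⟨false⟩ => j₂.left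
  mem₀ := by
    rw [Scheme.presieve₀_mem_precoverage_iff]
    refine ⟨fun z => ?_, ?_⟩
    · rcases h.cov z with hz | hz
      · exact ⟨⟨true⟩, hz⟩
      · exact ⟨⟨false⟩, hz⟩
    · rintro ⟨_ | _⟩
      · exact h.oi₂
      · exact h.oi₁

theorem IsTwoCover.hom_ext (h : IsTwoCover j₁ j₂) {a b : V ⟶ Z} (e₁ : j₁ ≫ a = j₁ ≫ b)
    (e₂ : j₂ ≫ a = j₂ ≫ b) : a = b := by
  refine Over.OverMorphism.ext (h.cover.hom_ext _ _ ?_)
  rintro ⟨_ | _⟩
  · exact congrArg CommaMorphism.left e₂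
  · exact congrArg CommaMorphism.left e₁

theorem IsTwoCover.exists_desc (h : IsTwoCover j₁ j₂) (m₁ : V₁ ⟶ Z) (m₂ : V₂ ⟶ Z)
    (hc : ∀ {W : Over B} (x : W ⟶ V₁) (y : W ⟶ V₂), x ≫ j₁ = y ≫ j₂ → x ≫ m₁ = y ≫ m₂) :
    ∃ m : V ⟶ Z, j₁ ≫ m = m₁ ∧ j₂ ≫ m = m₂ := by
  haveI := h.oi₁
  haveI := h.oi₂
  have c12 : pullback.fst j₁.left j₂.left ≫ m₁.left = pullback.snd j₁.left j₂.left ≫ m₂.left := by
    let W : Over B := Over.mk (pullback.fst j₁.left j₂.left ≫ V₁.hom)
    let x : W ⟶ V₁ := Over.homMk (pullback.fst j₁.left j₂.left) rfl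
    let y : W ⟶ V₂ := Over.homMk (pullback.snd j₁.left j₂.left) (by
      show pullback.snd j₁.left j₂.left ≫ V₂.hom = pullback.fst j₁.left j₂.left ≫ V₁.hom
      rw [← Over.w j₁, ← Over.w j₂, pullback.condition_assoc])
    exact congrArg CommaMorphism.left (hc x y (Over.OverMorphism.ext pullback.condition))
  let ml : ∀ i, h.cover.X i ⟶ Z.left := fun i => match i with
    | ⟨true⟩ => m₁.left
    | ⟨false⟩ => m₂.left
  have hglue : ∀ i j, pullback.fst (h.cover.f i) (h.cover.f j) ≫ ml i =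
      pullback.snd (h.cover.f i) (h.cover.f j) ≫ ml j := by
    rintro ⟨_ | _⟩ ⟨_ | _⟩
    · have : pullback.fst j₂.left j₂.left = pullback.snd j₂.left j₂.left := fst_eq_snd_of_mono_eq _
      exact congrArg (· ≫ m₂.left) this
    · show pullback.fst j₂.left j₁.left ≫ m₂.left = pullback.snd j₂.left j₁.left ≫ m₁.left
      rw [← cancel_epi (pullbackSymmetry j₁.left j₂.left).hom, pullbackSymmetry_hom_comp_fst_assoc,
        pullbackSymmetry_hom_comp_snd_assoc, c12]
    · exact c12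
    · have : pullback.fst j₁.left j₁.left = pullback.snd j₁.left j₁.left := fst_eq_snd_of_mono_eq _
      exact congrArg (· ≫ m₁.left) this
  have e : ∀ i, h.cover.f i ≫ h.cover.glueMorphisms ml hglue = ml i := fun i => h.cover.ι_glueMorphisms _ hglue i
  refine ⟨Over.homMk (h.cover.glueMorphisms ml hglue) (h.cover.hom_ext _ _ ?_),
    Over.OverMorphism.ext (e ⟨true⟩), Over.OverMorphism.ext (e ⟨false⟩)⟩
  intro i
  rw [← Category.assoc, e i]
  rcases i with ⟨_ | _⟩
  · exact (Over.w m₂).trans (Over.w j₂).symm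
  · exact (Over.w m₁).trans (Over.w j₁).symm

/-- The preimages of two covering opens cover. -/
theorem IsTwoCover.pullback (h : IsTwoCover j₁ j₂) {T : Over B} (y : T ⟶ V) :
    ∃ (T₁ T₂ : Over B) (l₁ : T₁ ⟶ T) (l₂ : T₂ ⟶ T), IsTwoCover l₁ l₂ ∧
      (∃ x : T₁ ⟶ V₁, x ≫ j₁ = l₁ ≫ y) ∧ ∃ x : T₂ ⟶ V₂, x ≫ j₂ = l₂ ≫ y := by
  haveI := h.oi₁
  haveI := h.oi₂
  refine ⟨Over.mk (Limits.pullback.fst y.left j₁.left ≫ T.hom), Over.mk (Limits.pullback.fst y.left j₂.left ≫ T.hom),
    Over.homMk (Limits.pullback.fst y.left j₁.left) rfl, Over.homMk (Limits.pullback.fst y.left j₂.left) rfl,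
    ⟨inferInstanceAs (IsOpenImmersion (Limits.pullback.fst y.left j₁.left)),
      inferInstanceAs (IsOpenImmersion (Limits.pullback.fst y.left j₂.left)), fun t => ?_⟩,
    ⟨Over.homMk (Limits.pullback.snd y.left j₁.left) ?_, Over.OverMorphism.ext Limits.pullback.condition.symm⟩,
    ⟨Over.homMk (Limits.pullback.snd y.left j₂.left) ?_, Over.OverMorphism.ext Limits.pullback.condition.symm⟩⟩
  · rcases h.cov (y.left.base t) with ⟨v, hv⟩ | ⟨v, hv⟩
    · left
      obtain ⟨w, hw, -⟩ := Scheme.Pullback.exists_preimage_pullback (f := y.left) (g := j₁.left) t v hv.symm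
      exact ⟨w, hw⟩
    · right
      obtain ⟨w, hw, -⟩ := Scheme.Pullback.exists_preimage_pullback (f := y.left) (g := j₂.left) t v hv.symm
      exact ⟨w, hw⟩
  · show Limits.pullback.snd y.left j₁.left ≫ V₁.hom = _ ≫ T.hom
    rw [← Over.w j₁, ← pullback.condition_assoc, Over.w y]
  · show Limits.pullback.snd y.left j₂.left ≫ V₂.hom = _ ≫ T.hom
    rw [← Over.w j₂, ← pullback.condition_assoc, Over.w y]

end Groth.Agent.GlueTor
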